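import Groth.Agent.Lib.Pinch4.Ferrand
import Groth.Agent.Lib.QCoh.PullbackSections
import Groth.Agent.Lib.QCoh.FT
import Groth.Agent.Lib.LocFree8.Basic
import Groth.Agent.Lib.FlatFP.Sheaf
import Groth.Agent.Lib.FlatFP.Kernel
import Groth.Agent.Lib.FlatFP.SheafFlat
import Groth.Agent.Lib.AssPts.Points
import Groth.Agent.Lib.OX.LocFreeTensor
import Groth.Agent.Lib.OX.TorAmp
import Groth.Agent.Lib.OX.Exact
import Mathlib

/-! # Quasi-coherent modules on a pinching square -/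

universe u

open CategoryTheory CategoryTheory.Limits AlgebraicGeometry TopologicalSpace TensorProduct

namespace GrothLib.Ferrand

section Transfer

variable {A C : Type u} [CommRing A] [CommRing C] [Algebra A C] {M : Type u} [AddCommGroup M] [Module A M]

theorem transfer {C' : Type u} [CommRing C'] [Algebra A C'] (e : C ≃ₐ[A] C') :
    (Module.Flat C (C ⊗[A] M) → Module.Flat C' (C' ⊗[A] M)) ∧
    (Module.Finite C (C ⊗[A] M) → Module.Finite C' (C' ⊗[A] M)) ∧
    (Module.FinitePresentation C (C ⊗[A] M) → Module.FinitePresentation C' (C' ⊗[A] M)) ∧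
    (Subsingleton (C ⊗[A] M) → Subsingleton (C' ⊗[A] M)) := by
  letI := e.toAlgHom.toRingHom.toAlgebra
  haveI : IsScalarTower A C C' := IsScalarTower.of_algebraMap_eq fun a => (e.commutes a).symm
  let E : C' ⊗[C] (C ⊗[A] M) ≃ₗ[C'] C' ⊗[A] M := AlgebraTensorModule.cancelBaseChange A C C' C' M
  refine ⟨fun _ => Module.Flat.of_linearEquiv E.symm, fun _ => Module.Finite.equiv E,
    fun _ => Module.FinitePresentation.of_equiv E, fun _ => ?_⟩
  exact (TensorProduct.congr (LinearEquiv.refl A M) e.toLinearEquiv).toEquiv.subsingleton_congr.1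
    ((TensorProduct.comm A C M).toEquiv.subsingleton_congr.1 ‹_›) |> fun h =>
      (TensorProduct.comm A C' M).toEquiv.subsingleton_congr.2 h

end Transfer

variable {X Y : Scheme.{u}} (g : X ⟶ Y) (G : Y.Modules) [G.IsQuasicoherent]

theorem sectionsEquiv [IsAffineHom g] {V : Y.Opens} (hV : IsAffineOpen V) :
    letI : Algebra Γ(Y, V) Γ(X, g ⁻¹ᵁ V) := (g.app V).hom.toAlgebra
    Nonempty (Γ(X, g ⁻¹ᵁ V) ⊗[Γ(Y, V)] Γ(G, V) ≃ₗ[Γ(X, g ⁻¹ᵁ V)]
      Γ((Scheme.Modules.pullback g).obj G, g ⁻¹ᵁ V)) := by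
  letI : Algebra Γ(Y, V) Γ(X, g ⁻¹ᵁ V) := (g.app V).hom.toAlgebra
  have halg : algebraMap Γ(Y, V) Γ(X, g ⁻¹ᵁ V) = (g.appLE V (g ⁻¹ᵁ V) le_rfl).hom := by
    rw [RingHom.algebraMap_toAlgebra, Scheme.Hom.app_eq_appLE]
  exact ⟨LinearEquiv.ofBijective _ (QCoh.bijective_sectionsMap g G le_rfl halg hV (hV.preimage g))⟩

theorem isOpenCover_preimage : IsOpenCover fun V : Y.affineOpens => g ⁻¹ᵁ V.1 := by
  refine top_le_iff.mp fun x _ => ?_
  obtain ⟨V, hV, hxV, -⟩ := exists_isAffineOpen_mem_and_subset (U := (⊤ : Y.Opens)) (x := g x) trivial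
  exact Opens.mem_iSup.mpr ⟨⟨V, hV⟩, hxV⟩

theorem subsingleton_sections_of_isZero {F : X.Modules} (h : IsZero F) (W : X.Opens) : Subsingleton Γ(F, W) := by
  refine subsingleton_of_forall_eq 0 fun s => ?_
  have h2 := congrArg (fun φ : F ⟶ F => φ.app W s) ((IsZero.iff_id_eq_zero F).1 h)
  simpa using h2

theorem isZero_of_stalks {M : X.Modules} (h : ∀ x : X, IsZero ((OX.stalk x).obj M)) : IsZero M := by
  have : IsIso (0 : M ⟶ M) := (OX.isIso_iff _).2 fun x => ⟨0, (h x).eq_of_src _ _, (h x).eq_of_src _ _⟩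
  exact (IsZero.iff_id_eq_zero _).2 ((cancel_epi (0 : M ⟶ M)).1 (by simp))

theorem flat_sections_self (N : Y.Modules) [N.IsQuasicoherent] (hN : FlatMod.IsFlat N)
    {V : Y.Opens} (hV : IsAffineOpen V) : Module.Flat Γ(Y, V) Γ(N, V) := by
  refine Module.flat_of_isLocalized_maximal Γ(Y, V) Γ(N, V)
    (fun P _ => LocalizedModule P.primeCompl Γ(N, V)) (fun P _ => LocalizedModule.mkLinearMap _ _)
    fun P hP => ?_
  obtain ⟨x, hx, hxP⟩ := AssPts.exists_point hV P hP.isPrime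
  refine FlatFP.flat_localized_prime_congr hxP ?_
  let O := Y.presheaf.stalk x
  letI := Y.presheaf.algebra_section_stalk ⟨x, hx⟩
  haveI := FlatFP.isLocalization_stalk_primeAt hV hx
  letI : Module Γ(Y, V) (N.presheaf.stalk x) := Module.compHom _ (Y.presheaf.germ V x hx).hom
  haveI : IsScalarTower Γ(Y, V) O (N.presheaf.stalk x) := IsScalarTower.of_algebraMap_smul fun _ _ => rfl
  obtain ⟨g, hg, -⟩ := FlatFP.isLocalizedModule_germ N hV hx
  haveI := hg
  haveI : Module.Flat O (N.presheaf.stalk x) := hN x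
  haveI : Module.Flat Γ(Y, V) O := IsLocalization.flat O (WeakAss.primeAt x hx).primeCompl
  haveI : Module.Flat Γ(Y, V) (N.presheaf.stalk x) := Module.Flat.trans Γ(Y, V) O _
  exact Module.Flat.of_linearEquiv (IsLocalizedModule.iso (WeakAss.primeAt x hx).primeCompl g)

theorem isZero_of_sections {F : X.Modules} [F.IsQuasicoherent]
    (h : ∀ V : X.Opens, IsAffineOpen V → Subsingleton Γ(F, V)) : IsZero F := by
  refine isZero_of_stalks fun x => @ModuleCat.isZero_of_subsingleton _ _ _ ?_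
  obtain ⟨V, hV, hxV, -⟩ := exists_isAffineOpen_mem_and_subset (U := (⊤ : X.Opens)) (x := x) trivial
  haveI := h V hV
  letI := X.presheaf.algebra_section_stalk ⟨x, hxV⟩
  letI : Module Γ(X, V) (F.presheaf.stalk x) := Module.compHom _ (X.presheaf.germ V x hxV).hom
  obtain ⟨l, hl, -⟩ := FlatFP.isLocalizedModule_germ F hV hxV
  haveI := hl
  have hz : ∀ z : F.presheaf.stalk x, z = 0 := fun z => by
    obtain ⟨⟨m, s⟩, hm⟩ := IsLocalizedModule.surj (WeakAss.primeAt x hxV).primeCompl l z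
    rw [Subsingleton.elim m 0, map_zero] at hm
    exact ((Module.End.isUnit_iff _).1 (IsLocalizedModule.map_units l s)).1 (hm.trans (map_zero _).symm)
  exact subsingleton_of_forall_eq 0 hz

theorem isFlat_of_sections (F : X.Modules) [F.IsQuasicoherent]
    (h : ∀ V : X.Opens, IsAffineOpen V → Module.Flat Γ(X, V) Γ(F, V)) : FlatMod.IsFlat F := fun x => by
  obtain ⟨V, hV, hxV, -⟩ := exists_isAffineOpen_mem_and_subset (U := (⊤ : X.Opens)) (x := x) trivial
  haveI := h V hV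
  letI := X.presheaf.algebra_section_stalk ⟨x, hxV⟩
  haveI := FlatFP.isLocalization_stalk_primeAt hV hxV
  letI : Module Γ(X, V) (F.presheaf.stalk x) := Module.compHom _ (X.presheaf.germ V x hxV).hom
  haveI : IsScalarTower Γ(X, V) (X.presheaf.stalk x) (F.presheaf.stalk x) :=
    IsScalarTower.of_algebraMap_smul fun _ _ => rfl
  obtain ⟨l, hl, -⟩ := FlatFP.isLocalizedModule_germ F hV hxV
  haveI := hl
  exact Module.Flat.of_isLocalizedModule (X.presheaf.stalk x) (WeakAss.primeAt x hxV).primeCompl l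

section Square

variable {Y' : Scheme.{u}} {f : X ⟶ Y} {u : Y' ⟶ Y} [IsAffineHom f] [IsClosedImmersion u]

/-- The pinching condition. -/
abbrev Cond (f : X ⟶ Y) (u : Y' ⟶ Y) : Prop :=
  ∀ V ∈ Y.affineOpens,
    RingHom.ker (f.app V).hom ⊓ RingHom.ker (u.app V).hom = ⊥ ∧
    ∀ a ∈ Ideal.map (f.app V).hom (RingHom.ker (u.app V).hom),
      ∃ i ∈ RingHom.ker (u.app V).hom, (f.app V).hom i = a

theorem pieces (hM : Cond f u) {V : Y.Opens} (hV : IsAffineOpen V) :
    letI : Algebra Γ(Y, V) Γ(X, f ⁻¹ᵁ V) := (f.app V).hom.toAlgebra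
    letI : Algebra Γ(Y, V) Γ(Y', u ⁻¹ᵁ V) := (u.app V).hom.toAlgebra
    IsPinching Γ(X, f ⁻¹ᵁ V) (RingHom.ker (u.app V).hom) ∧
      Nonempty (Γ(Y', u ⁻¹ᵁ V) ≃ₐ[Γ(Y, V)] Γ(Y, V) ⧸ RingHom.ker (u.app V).hom) := by
  letI : Algebra Γ(Y, V) Γ(X, f ⁻¹ᵁ V) := (f.app V).hom.toAlgebra
  letI : Algebra Γ(Y, V) Γ(Y', u ⁻¹ᵁ V) := (u.app V).hom.toAlgebra
  refine ⟨⟨(hM V hV).1, (hM V hV).2⟩, ⟨?_⟩⟩
  exact (Ideal.quotientKerAlgEquivOfSurjective (f := Algebra.ofId Γ(Y, V) Γ(Y', u ⁻¹ᵁ V))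
    (u.app_surjective V hV)).symm

theorem isFlat_iff (hM : Cond f u) :
    FlatMod.IsFlat G ↔
      FlatMod.IsFlat ((Scheme.Modules.pullback u).obj G) ∧ FlatMod.IsFlat ((Scheme.Modules.pullback f).obj G) := by
  refine ⟨fun h => ⟨OX.flat_pullback u G h, OX.flat_pullback f G h⟩, fun ⟨h1, h2⟩ => isFlat_of_sections G fun V hV => ?_⟩
  haveI := FittSheaf.isQuasicoherent_pullback f G
  haveI := FittSheaf.isQuasicoherent_pullback u G
  letI : Algebra Γ(Y, V) Γ(X, f ⁻¹ᵁ V) := (f.app V).hom.toAlgebra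
  letI : Algebra Γ(Y, V) Γ(Y', u ⁻¹ᵁ V) := (u.app V).hom.toAlgebra
  obtain ⟨hp, ⟨e⟩⟩ := pieces hM hV
  obtain ⟨ef⟩ := sectionsEquiv f G hV
  obtain ⟨eu⟩ := sectionsEquiv u G hV
  haveI := flat_sections_self _ h2 (hV.preimage f)
  haveI := flat_sections_self _ h1 (hV.preimage u)
  haveI := Module.Flat.of_linearEquiv ef
  haveI := (transfer e).1 (Module.Flat.of_linearEquiv eu)
  exact flat hp

theorem isZero_of_pullback (hM : Cond f u) (h1 : IsZero ((Scheme.Modules.pullback u).obj G))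
    (h2 : IsZero ((Scheme.Modules.pullback f).obj G)) : IsZero G := by
  refine isZero_of_sections fun V hV => ?_
  letI : Algebra Γ(Y, V) Γ(X, f ⁻¹ᵁ V) := (f.app V).hom.toAlgebra
  letI : Algebra Γ(Y, V) Γ(Y', u ⁻¹ᵁ V) := (u.app V).hom.toAlgebra
  obtain ⟨hp, ⟨e⟩⟩ := pieces hM hV
  obtain ⟨ef⟩ := sectionsEquiv f G hV
  obtain ⟨eu⟩ := sectionsEquiv u G hV
  haveI := subsingleton_sections_of_isZero h2 (f ⁻¹ᵁ V)
  haveI := subsingleton_sections_of_isZero h1 (u ⁻¹ᵁ V)
  haveI := ef.toEquiv.subsingleton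
  haveI := (transfer e).2.2.2 eu.toEquiv.subsingleton
  exact subsingleton hp

theorem isFiniteType_iff (hM : Cond f u) :
    SheafOfModules.IsFiniteType.{u, u, u} G ↔
      SheafOfModules.IsFiniteType.{u, u, u} ((Scheme.Modules.pullback u).obj G) ∧
        SheafOfModules.IsFiniteType.{u, u, u} ((Scheme.Modules.pullback f).obj G) := by
  haveI := FittSheaf.isQuasicoherent_pullback f G
  haveI := FittSheaf.isQuasicoherent_pullback u G
  have fwd : ∀ {Z : Scheme.{u}} (g : Z ⟶ Y) [IsAffineHom g], SheafOfModules.IsFiniteType.{u, u, u} G →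
      SheafOfModules.IsFiniteType.{u, u, u} ((Scheme.Modules.pullback g).obj G) := by
    intro Z g _ h
    haveI := FittSheaf.isQuasicoherent_pullback g G
    refine QCoh.isFiniteType_of_moduleFinite _ (fun V : Y.affineOpens => g ⁻¹ᵁ V.1) (isOpenCover_preimage g)
      (fun V => V.2.preimage g) fun V => ?_
    letI : Algebra Γ(Y, V.1) Γ(Z, g ⁻¹ᵁ V.1) := (g.app V.1).hom.toAlgebra
    obtain ⟨eg⟩ := sectionsEquiv g G V.2
    haveI := (QCoh.isFiniteType_iff_moduleFinite G).1 h V.1 V.2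
    exact Module.Finite.equiv eg
  refine ⟨fun h => ⟨fwd u h, fwd f h⟩, fun ⟨h1, h2⟩ => (QCoh.isFiniteType_iff_moduleFinite G).2 fun V hV => ?_⟩
  letI : Algebra Γ(Y, V) Γ(X, f ⁻¹ᵁ V) := (f.app V).hom.toAlgebra
  letI : Algebra Γ(Y, V) Γ(Y', u ⁻¹ᵁ V) := (u.app V).hom.toAlgebra
  obtain ⟨hp, ⟨e⟩⟩ := pieces hM hV
  obtain ⟨ef⟩ := sectionsEquiv f G hV
  obtain ⟨eu⟩ := sectionsEquiv u G hV
  haveI := (QCoh.isFiniteType_iff_moduleFinite _).1 h2 _ (hV.preimage f)
  haveI := (QCoh.isFiniteType_iff_moduleFinite _).1 h1 _ (hV.preimage u)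
  haveI := Module.Finite.equiv ef.symm
  haveI := (transfer e).2.1 (Module.Finite.equiv eu.symm)
  exact finite hp

theorem isFinLocFree_iff (hM : Cond f u) :
    FlatMod.IsFinLocFree G ↔
      FlatMod.IsFinLocFree ((Scheme.Modules.pullback u).obj G) ∧
        FlatMod.IsFinLocFree ((Scheme.Modules.pullback f).obj G) := by
  refine ⟨fun h => ⟨OX.isFinLocFree_pullback u h, OX.isFinLocFree_pullback f h⟩, fun ⟨h1, h2⟩ => ?_⟩
  haveI := FittSheaf.isQuasicoherent_pullback f G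
  haveI := FittSheaf.isQuasicoherent_pullback u G
  have hflat : FlatMod.IsFlat G :=
    (isFlat_iff G hM).2 ⟨OX.flat_of_isFinLocFree h1, OX.flat_of_isFinLocFree h2⟩
  have hfp : CohB1.IsFP G := by
    refine FlatFP.isFP_of_sections G (fun V : Y.affineOpens => V.1) (iSup_affineOpens_eq_top Y) (fun V => V.2)
      fun ⟨V, hV⟩ => ?_
    letI : Algebra Γ(Y, V) Γ(X, f ⁻¹ᵁ V) := (f.app V).hom.toAlgebra
    letI : Algebra Γ(Y, V) Γ(Y', u ⁻¹ᵁ V) := (u.app V).hom.toAlgebra
    obtain ⟨hp, ⟨e⟩⟩ := pieces hM hV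
    obtain ⟨ef⟩ := sectionsEquiv f G hV
    obtain ⟨eu⟩ := sectionsEquiv u G hV
    haveI := flat_sections_self _ (OX.flat_of_isFinLocFree h2) (hV.preimage f)
    haveI := flat_sections_self _ (OX.flat_of_isFinLocFree h1) (hV.preimage u)
    haveI := FlatFP.finitePresentation_sections _ (LocFree8.isFP_of_isFinLocFree _ h2) (hV.preimage f)
    haveI := FlatFP.finitePresentation_sections _ (LocFree8.isFP_of_isFinLocFree _ h1) (hV.preimage u)
    haveI := Module.Flat.of_linearEquiv ef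
    haveI := (transfer e).1 (Module.Flat.of_linearEquiv eu)
    haveI := Module.FinitePresentation.of_equiv ef.symm
    haveI := (transfer e).2.2.1 (Module.FinitePresentation.of_equiv eu.symm)
    exact finitePresentation hp
  refine (LocFree8.isFinLocFree_iff_fp_free G).2 ⟨hfp, fun x => ?_⟩
  haveI : Module.Flat (Y.presheaf.stalk x) (G.presheaf.stalk x) := hflat x
  haveI : SheafOfModules.IsFiniteType.{u, u, u} G := (isFiniteType_iff G hM).2
    ⟨(QCoh.isFiniteType_iff_moduleFinite _).2 fun W hW =>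
        haveI := FlatFP.finitePresentation_sections _ (LocFree8.isFP_of_isFinLocFree _ h1) hW
        inferInstance,
      (QCoh.isFiniteType_iff_moduleFinite _).2 fun W hW =>
        haveI := FlatFP.finitePresentation_sections _ (LocFree8.isFP_of_isFinLocFree _ h2) hW
        inferInstance⟩
  haveI : Module.Finite (Y.presheaf.stalk x) (G.presheaf.stalk x) :=
    QCoh.stalk_finite G ⟨‹G.IsQuasicoherent›, ‹_›⟩ x
  exact Module.free_of_flat_of_isLocalRing

end Square

end GrothLib.Ferrand
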