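import Mathlib

/-!
# Modules over a pinching (Milnor) square

`A → B` with `I` an ideal of `A` such that `ker ∩ I = 0` and `I B` is the image of `I`.
-/

universe u

namespace GrothLib.Ferrand


open TensorProduct

variable {A : Type u} [CommRing A]

/-- A pinching pair. -/
structure IsPinching (B : Type u) [CommRing B] [Algebra A B] (I : Ideal A) : Prop where
  inter : RingHom.ker (algebraMap A B) ⊓ I = ⊥
  surj : ∀ b ∈ I.map (algebraMap A B), ∃ i ∈ I, algebraMap A B i = b

section Flat

variable {M : Type u} [AddCommGroup M] [Module A M]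

/-- Tensoring an injection of `S`-modules with `M` is injective when `S ⊗ M` is flat. -/
theorem rTensor_injective_of_algebra {S : Type u} [CommRing S] [Algebra A S] [Module.Flat S (S ⊗[A] M)]
    {N N' : Type u} [AddCommGroup N] [AddCommGroup N'] [Module A N] [Module A N'] [Module S N] [Module S N']
    [IsScalarTower A S N] [IsScalarTower A S N'] (φ : N →ₗ[S] N') (hφ : Function.Injective φ) :
    Function.Injective (LinearMap.rTensor M (φ.restrictScalars A)) := by
  have h := Module.Flat.rTensor_preserves_injective_linearMap (M := S ⊗[A] M) φ hφ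
  let e := AlgebraTensorModule.cancelBaseChange A S S N M
  let e' := AlgebraTensorModule.cancelBaseChange A S S N' M
  have key : ∀ z, LinearMap.rTensor M (φ.restrictScalars A) (e z) = e' (LinearMap.rTensor (S ⊗[A] M) φ z) := fun z => by
    induction z with
    | zero => simp
    | add a b ha hb => simp only [map_add, ha, hb]
    | tmul n w =>
      induction w with
      | zero => simp
      | add a b ha hb => simp only [tmul_add, map_add, ha, hb]
      | tmul s m => simp [e, e', LinearMap.map_smul_of_tower]
  intro x y hxy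
  obtain ⟨x, rfl⟩ := e.surjective x
  obtain ⟨y, rfl⟩ := e.surjective y
  rw [key, key] at hxy
  exact congrArg e (h (e'.injective hxy))

variable {B : Type u} [CommRing B] [Algebra A B] {I : Ideal A}

theorem rTensor_ideal_injective (h : IsPinching B I) [Module.Flat B (B ⊗[A] M)] :
    Function.Injective (LinearMap.rTensor M I.subtype) := by
  let J : Ideal B := I.map (algebraMap A B)
  let r : I →ₗ[A] J :=
    { toFun := fun i => ⟨algebraMap A B i, Ideal.mem_map_of_mem _ i.2⟩
      map_add' := fun i j => Subtype.ext (map_add _ _ _)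
      map_smul' := fun a i => Subtype.ext (by simp [Algebra.smul_def]) }
  have hr : Function.Bijective r := by
    refine ⟨(injective_iff_map_eq_zero r).2 fun i hi => Subtype.ext ?_, fun ⟨b, hb⟩ => ?_⟩
    · have h1 : (i : A) ∈ RingHom.ker (algebraMap A B) ⊓ I := ⟨congrArg Subtype.val hi, i.2⟩
      rw [h.inter] at h1
      exact h1
    · obtain ⟨i, hi, rfl⟩ := h.surj b hb
      exact ⟨⟨i, hi⟩, rfl⟩
  have h1 := rTensor_injective_of_algebra (A := A) (M := M) (S := B) (N := (J : Submodule B B)) (N' := B) (Submodule.subtype J) (Submodule.injective_subtype J)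
  have h2 : LinearMap.rTensor M ((J.subtype).restrictScalars A) ∘ₗ LinearMap.rTensor M r =
      LinearMap.rTensor M (Algebra.linearMap A B) ∘ₗ LinearMap.rTensor M I.subtype := by
    rw [← LinearMap.rTensor_comp, ← LinearMap.rTensor_comp]
    rfl
  intro x y hxy
  refine (LinearEquiv.rTensor M (LinearEquiv.ofBijective r hr)).injective (h1 ?_)
  have hx := LinearMap.congr_fun h2 x
  have hy := LinearMap.congr_fun h2 y
  simp only [LinearMap.comp_apply] at hx hy
  exact (hx.trans (congrArg _ hxy)).trans hy.symm

/-- Injectivity after tensoring, from a sub and a quotient. -/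
theorem rTensor_injective_of_exact {X L Z F W : Type u} [AddCommGroup X] [AddCommGroup L] [AddCommGroup Z]
    [AddCommGroup F] [AddCommGroup W] [Module A X] [Module A L] [Module A Z] [Module A F] [Module A W]
    (i : X →ₗ[A] L) (q : L →ₗ[A] Z) (hex : Function.Exact i q) (hq : Function.Surjective q)
    (ψ : L →ₗ[A] F) (χ : Z →ₗ[A] W) (qF : F →ₗ[A] W) (hc : χ ∘ₗ q = qF ∘ₗ ψ)
    (hi : Function.Injective (LinearMap.rTensor M (ψ ∘ₗ i))) (hχ : Function.Injective (LinearMap.rTensor M χ)) :
    Function.Injective (LinearMap.rTensor M ψ) := by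
  refine (injective_iff_map_eq_zero (LinearMap.rTensor M ψ)).2 fun x hx => ?_
  have h1 : LinearMap.rTensor M q x = 0 := hχ (by
    rw [map_zero, ← LinearMap.comp_apply, ← LinearMap.rTensor_comp, hc, LinearMap.rTensor_comp,
      LinearMap.comp_apply, hx, map_zero])
  obtain ⟨z, rfl⟩ := (rTensor_exact M hex hq x).1 h1
  rw [← LinearMap.comp_apply, ← LinearMap.rTensor_comp] at hx
  rw [hi (hx.trans (map_zero _).symm), map_zero]

theorem finsupp_rTensor_injective {α : Type u} (hI : Function.Injective (LinearMap.rTensor M I.subtype)) :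
    Function.Injective (LinearMap.rTensor M (Finsupp.mapRange.linearMap (α := α) I.subtype)) := by
  classical
  have key : ∀ z : (α →₀ I) ⊗[A] M,
      TensorProduct.finsuppLeft A A A M α (LinearMap.rTensor M (Finsupp.mapRange.linearMap (α := α) I.subtype) z) =
        Finsupp.mapRange.linearMap (LinearMap.rTensor M I.subtype)
          (TensorProduct.finsuppLeft A A I M α z) := fun z => by
    induction z with
    | zero => simp
    | add a b ha hb => simp only [map_add, ha, hb]
    | tmul f m =>
      ext p
      simp [TensorProduct.finsuppLeft_apply_tmul_apply]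
  intro x y hxy
  have h1 := congrArg (TensorProduct.finsuppLeft A A A M α) hxy
  rw [key, key] at h1
  exact (TensorProduct.finsuppLeft A A I M α).injective (Finsupp.mapRange_injective _ (map_zero _) hI h1)

/-- Submodules of an abstract free-like module. -/
theorem rTensor_subtype_injective_over {X F W : Type u} [AddCommGroup X] [AddCommGroup F] [AddCommGroup W]
    [Module A X] [Module A F] [Module A W] [Module (A ⧸ I) W] [IsScalarTower A (A ⧸ I) W]
    [Module.Flat (A ⧸ I) ((A ⧸ I) ⊗[A] M)]
    (ι : X →ₗ[A] F) (qF : F →ₗ[A] W) (hex : Function.Exact ι qF)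
    (hι : Function.Injective (LinearMap.rTensor M ι)) (L : Submodule A F) (hle : LinearMap.range ι ≤ L) :
    Function.Injective (LinearMap.rTensor M L.subtype) := by
  let Z : Submodule (A ⧸ I) W :=
    { (L.map qF).toAddSubmonoid with
      smul_mem' := fun c x hx => by
        obtain ⟨a, rfl⟩ := Ideal.Quotient.mk_surjective c
        obtain ⟨f, hf, rfl⟩ := hx
        exact ⟨a • f, L.smul_mem a hf, by rw [map_smul]; exact (algebraMap_smul (A ⧸ I) a (qF f)).symm⟩ }
  let j : X →ₗ[A] L := ι.codRestrict L fun x => hle ⟨x, rfl⟩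
  let q : L →ₗ[A] Z :=
    { toFun := fun f => ⟨qF f, f.1, f.2, rfl⟩
      map_add' := fun f g => Subtype.ext (map_add qF f.1 g.1)
      map_smul' := fun a f => Subtype.ext (map_smul qF a f.1) }
  have hq : Function.Surjective q := fun ⟨x, f, hf, hx⟩ => ⟨⟨f, hf⟩, Subtype.ext hx⟩
  have hexq : Function.Exact j q := fun f => by
    constructor
    · intro hf
      obtain ⟨x, hx⟩ := (hex f.1).1 (congrArg Subtype.val hf)
      exact ⟨x, Subtype.ext hx⟩
    · rintro ⟨x, rfl⟩
      exact Subtype.ext ((hex _).2 ⟨x, rfl⟩)
  exact rTensor_injective_of_exact j q hexq hq L.subtype (Z.subtype.restrictScalars A) qF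
    (LinearMap.ext fun _ => rfl) hι
    (rTensor_injective_of_algebra (M := M) (S := A ⧸ I) (N := Z) (N' := W) Z.subtype Z.injective_subtype)

/-- Injectivity descends along surjections. -/
theorem rTensor_subtype_injective_of_comap {F P : Type u} [AddCommGroup F] [AddCommGroup P] [Module A F] [Module A P]
    (π : F →ₗ[A] P) (hπ : Function.Surjective π) (L : Submodule A P)
    (hfree : Function.Injective (LinearMap.rTensor M (L.comap π).subtype)) :
    Function.Injective (LinearMap.rTensor M L.subtype) := by
  let p : L.comap π →ₗ[A] L := π.restrict fun f hf => hf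
  have hp : Function.Surjective p := fun ⟨y, hy⟩ => by
    obtain ⟨f, rfl⟩ := hπ y
    exact ⟨⟨f, hy⟩, rfl⟩
  let k : LinearMap.ker π →ₗ[A] L.comap π := (LinearMap.ker π).subtype.codRestrict _ fun f => by
    show π f ∈ L
    rw [LinearMap.mem_ker.1 f.2]; exact zero_mem L
  refine (injective_iff_map_eq_zero (LinearMap.rTensor M L.subtype)).2 fun y hy => ?_
  obtain ⟨x, rfl⟩ := LinearMap.rTensor_surjective M hp y
  rw [← LinearMap.comp_apply, ← LinearMap.rTensor_comp, show L.subtype ∘ₗ p = π ∘ₗ (L.comap π).subtype from rfl,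
    LinearMap.rTensor_comp, LinearMap.comp_apply] at hy
  obtain ⟨r, hr⟩ := (rTensor_exact M (f := (LinearMap.ker π).subtype) (LinearMap.exact_subtype_ker_map π) hπ _).1 hy
  have hxr : x = LinearMap.rTensor M k r := hfree (by
    rw [← LinearMap.comp_apply, ← LinearMap.rTensor_comp]; exact hr.symm)
  rw [hxr, ← LinearMap.comp_apply, ← LinearMap.rTensor_comp,
    show p ∘ₗ k = 0 from LinearMap.ext fun f => Subtype.ext (LinearMap.mem_ker.1 f.2)]
  simp

/-- Submodules with quotient killed by `I` stay injective after tensoring. -/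
theorem rTensor_subtype_injective (hI : Function.Injective (LinearMap.rTensor M I.subtype))
    [Module.Flat (A ⧸ I) ((A ⧸ I) ⊗[A] M)] {P : Type u} [AddCommGroup P] [Module A P]
    (L : Submodule A P) (hL : I • (⊤ : Submodule A P) ≤ L) :
    Function.Injective (LinearMap.rTensor M L.subtype) := by
  classical
  let ι : (P →₀ I) →ₗ[A] (P →₀ A) := Finsupp.mapRange.linearMap (Submodule.subtype I)
  let qF : (P →₀ A) →ₗ[A] (P →₀ A ⧸ I) := Finsupp.mapRange.linearMap (Ideal.Quotient.mkₐ A I).toLinearMap
  have hex : Function.Exact ι qF := fun f => by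
    constructor
    · intro hf
      have hf' : ∀ p, f p ∈ I := fun p => Ideal.Quotient.eq_zero_iff_mem.1 (DFunLike.congr_fun hf p)
      refine ⟨Finsupp.onFinset f.support (fun p => ⟨f p, hf' p⟩) fun p hp => ?_, Finsupp.ext fun p => rfl⟩
      rw [Finsupp.mem_support_iff]; exact fun h => hp (Subtype.ext h)
    · rintro ⟨g, rfl⟩
      exact Finsupp.ext fun p => Ideal.Quotient.eq_zero_iff_mem.2 (g p).2
  let π : (P →₀ A) →ₗ[A] P := Finsupp.linearCombination A _root_.id
  have hπ : Function.Surjective π := fun p =>
    ⟨Finsupp.single p 1, (Finsupp.linearCombination_single A _ p).trans (one_smul A p)⟩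
  have hle : LinearMap.range ι ≤ L.comap π := by
    rintro _ ⟨f, rfl⟩
    show π (ι f) ∈ L
    induction f using Finsupp.induction_linear with
    | zero => rw [map_zero, map_zero]; exact zero_mem _
    | add f g hf hg => rw [map_add, map_add]; exact add_mem hf hg
    | single p i =>
      simp only [ι, π, Finsupp.mapRange.linearMap_apply, Finsupp.mapRange_single, Finsupp.linearCombination_single]
      exact hL (Submodule.smul_mem_smul i.2 trivial)
  exact rTensor_subtype_injective_of_comap π hπ L
    (rTensor_subtype_injective_over (I := I) (X := P →₀ I) (F := P →₀ A) (W := P →₀ A ⧸ I) ι qF hex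
      (finsupp_rTensor_injective hI) (L.comap π) hle)

/-- **Flatness over a pinching square.** -/
theorem flat (h : IsPinching B I) [Module.Flat B (B ⊗[A] M)] [Module.Flat (A ⧸ I) ((A ⧸ I) ⊗[A] M)] :
    Module.Flat A M := by
  have hI := rTensor_ideal_injective (M := M) h
  refine Module.Flat.iff_rTensor_injective'.2 fun J => ?_
  let f := algebraMap A B
  let g : J →ₗ[A] B := (Algebra.linearMap A B).comp J.subtype
  let L : Submodule A B := LinearMap.range g
  let BL : Submodule B B := Submodule.span B (L : Set B)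
  let L' : Submodule A BL := L.comap (BL.subtype.restrictScalars A)
  have hL' : I • (⊤ : Submodule A BL) ≤ L' := by
    refine Submodule.smul_le.2 fun i hi w _ => ?_
    show ((i • w : BL) : B) ∈ L
    obtain ⟨w, hw⟩ := w
    show i • w ∈ L
    clear * - hw hi h
    induction hw using Submodule.span_induction generalizing i with
    | mem z hz => exact L.smul_mem i hz
    | zero => rw [smul_zero]; exact zero_mem L
    | add a b _ _ ha hb => rw [smul_add]; exact add_mem (ha i hi) (hb i hi)
    | smul c z _ hz =>
      obtain ⟨i', hi', hi''⟩ := h.surj (algebraMap A B i * c) (Ideal.mul_mem_right _ _ (Ideal.mem_map_of_mem _ hi))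
      have : i • c • z = i' • z := by
        rw [smul_eq_mul, Algebra.smul_def, Algebra.smul_def, hi'']; ring
      rw [this]; exact hz i' hi'
  let g' : J →ₗ[A] BL := g.codRestrict (BL.restrictScalars A) fun x => Submodule.subset_span ⟨x, rfl⟩
  let gL : J →ₗ[A] L' := g'.codRestrict L' fun x => ⟨x, rfl⟩
  have hgL : Function.Surjective gL := fun ⟨⟨w, hw⟩, x, hx⟩ => ⟨x, Subtype.ext (Subtype.ext hx)⟩
  let K := LinearMap.ker gL
  have hinjBL := rTensor_injective_of_algebra (A := A) (M := M) (S := B) (N := BL) (N' := B) BL.subtype BL.injective_subtype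
  have hinjL := rTensor_subtype_injective (M := M) hI L' hL'
  rw [injective_iff_map_eq_zero]
  intro x hx
  have h1 : LinearMap.rTensor M gL x = 0 := hinjL (hinjBL (by
    rw [map_zero, map_zero, ← LinearMap.comp_apply, ← LinearMap.rTensor_comp, ← LinearMap.comp_apply,
      ← LinearMap.rTensor_comp,
      show ((BL.subtype.restrictScalars A) ∘ₗ L'.subtype) ∘ₗ gL = (Algebra.linearMap A B) ∘ₗ J.subtype from rfl,
      LinearMap.rTensor_comp, LinearMap.comp_apply, hx, map_zero]))
  obtain ⟨z, rfl⟩ := (rTensor_exact M (LinearMap.exact_subtype_ker_map gL) hgL x).1 h1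
  -- the part killed by `A → B` lives over `A/I`
  let q : K →ₗ[A] A ⧸ I := (Ideal.Quotient.mkₐ A I).toLinearMap.comp (J.subtype.comp K.subtype)
  have hKI : ∀ (i : A), i ∈ I → ∀ k : K, i • k = 0 := fun i hi k => by
    apply Subtype.ext
    apply Subtype.ext
    have hk : algebraMap A B ((k : J) : A) = 0 := congrArg (fun w : L' => ((w : BL) : B)) (LinearMap.mem_ker.1 k.2)
    have h2 : i * ((k : J) : A) ∈ RingHom.ker (algebraMap A B) ⊓ I :=
      ⟨by rw [SetLike.mem_coe, RingHom.mem_ker, map_mul, hk, mul_zero], I.mul_mem_right _ hi⟩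
    rw [h.inter] at h2
    exact h2
  letI : Module (A ⧸ I) K := Module.IsTorsionBySet.module (fun k i => hKI i.1 i.2 k)
  haveI : IsScalarTower A (A ⧸ I) K := Module.IsTorsionBySet.isScalarTower (S := A) _
  let q' : K →ₗ[A ⧸ I] A ⧸ I :=
    LinearMap.extendScalarsOfSurjective (S := A ⧸ I) Ideal.Quotient.mk_surjective q
  have hq' : Function.Injective q' := (injective_iff_map_eq_zero q').2 fun k hk => by
    apply Subtype.ext
    apply Subtype.ext
    have hk' : algebraMap A B ((k : J) : A) = 0 := congrArg (fun w : L' => ((w : BL) : B)) (LinearMap.mem_ker.1 k.2)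
    have h2 : ((k : J) : A) ∈ RingHom.ker (algebraMap A B) ⊓ I := ⟨hk', Ideal.Quotient.eq_zero_iff_mem.1 hk⟩
    rw [h.inter] at h2
    exact h2
  have hz : z = 0 := by
    refine rTensor_injective_of_algebra (M := M) (S := A ⧸ I) q' hq' ?_
    rw [map_zero, show q'.restrictScalars A = (Ideal.Quotient.mkₐ A I).toLinearMap.comp (J.subtype.comp K.subtype) from rfl,
      LinearMap.rTensor_comp, LinearMap.comp_apply, LinearMap.rTensor_comp, LinearMap.comp_apply, hx, map_zero]
  rw [hz, map_zero]

end Flat

section Zero

variable {B : Type u} [CommRing B] [Algebra A B] {I : Ideal A} {M : Type u} [AddCommGroup M] [Module A M]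

theorem subsingleton (h : IsPinching B I) [Subsingleton (B ⊗[A] M)] [Subsingleton ((A ⧸ I) ⊗[A] M)] :
    Subsingleton M := by
  haveI : Module.Flat B (B ⊗[A] M) := inferInstance
  haveI : Module.Flat (A ⧸ I) ((A ⧸ I) ⊗[A] M) := inferInstance
  haveI := flat (M := M) h
  have hinj : Function.Injective (LinearMap.rTensor M I.subtype) :=
    Module.Flat.rTensor_preserves_injective_linearMap _ Subtype.val_injective
  refine subsingleton_of_forall_eq 0 fun m => ?_
  have h0 : (1 : A ⧸ I) ⊗ₜ[A] m = 0 := Subsingleton.elim _ _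
  obtain ⟨z, hz⟩ := (rTensor_exact M (LinearMap.exact_subtype_mkQ I) I.mkQ_surjective ((1 : A) ⊗ₜ[A] m)).1 (by
    rw [LinearMap.rTensor_tmul]; exact h0)
  have hz0 : z = 0 := by
    let J : Ideal B := I.map (algebraMap A B)
    let r : I →ₗ[A] J :=
      { toFun := fun i => ⟨algebraMap A B i, Ideal.mem_map_of_mem _ i.2⟩
        map_add' := fun i j => Subtype.ext (map_add _ _ _)
        map_smul' := fun a i => Subtype.ext (by simp [Algebra.smul_def]) }
    have hr : Function.Bijective r := by
      refine ⟨(injective_iff_map_eq_zero r).2 fun i hi => Subtype.ext ?_, fun ⟨b, hb⟩ => ?_⟩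
      · have h1 : (i : A) ∈ RingHom.ker (algebraMap A B) ⊓ I := ⟨congrArg Subtype.val hi, i.2⟩
        rw [h.inter] at h1
        exact h1
      · obtain ⟨i, hi, rfl⟩ := h.surj b hb
        exact ⟨⟨i, hi⟩, rfl⟩
    haveI : Subsingleton (J ⊗[A] M) :=
      (AlgebraTensorModule.cancelBaseChange A B B J M).toEquiv.symm.subsingleton
    exact (LinearEquiv.rTensor M (LinearEquiv.ofBijective r hr)).injective (Subsingleton.elim _ _)
  rw [hz0, map_zero] at hz
  simpa using congrArg (TensorProduct.lid A M) hz.symm

theorem finite (h : IsPinching B I) [Module.Finite B (B ⊗[A] M)] [Module.Finite (A ⧸ I) ((A ⧸ I) ⊗[A] M)] :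
    Module.Finite A M := by
  classical
  have key : ∀ (S : Type u) [CommRing S] [Algebra A S] [Module.Finite S (S ⊗[A] M)],
      ∃ T : Finset M, ∀ N : Submodule A M, (T : Set M) ⊆ N → Subsingleton (S ⊗[A] (M ⧸ N)) := by
    intro S _ _ _
    obtain ⟨G, hG⟩ := Module.Finite.fg_top (R := S) (M := S ⊗[A] M)
    choose T hT using fun z : S ⊗[A] M => TensorProduct.exists_finset z
    refine ⟨G.biUnion fun z => (T z).image Prod.snd, fun N hN => ?_⟩
    let Φ := AlgebraTensorModule.lTensor S S N.mkQ
    have hsurj : Function.Surjective Φ := LinearMap.lTensor_surjective S N.mkQ_surjective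
    refine subsingleton_of_forall_eq 0 fun w => ?_
    obtain ⟨z, rfl⟩ := hsurj w
    have hz : z ∈ Submodule.span S (G : Set (S ⊗[A] M)) := by rw [hG]; trivial
    induction hz using Submodule.span_induction with
    | mem z hz =>
      rw [hT z, map_sum]
      refine Finset.sum_eq_zero fun i hi => ?_
      show i.1 ⊗ₜ[A] N.mkQ i.2 = 0
      have : N.mkQ i.2 = 0 := by
        rw [← LinearMap.mem_ker, Submodule.ker_mkQ]
        exact hN (Finset.mem_biUnion.2 ⟨z, hz, Finset.mem_image_of_mem _ hi⟩)
      rw [this, tmul_zero]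
    | zero => rw [map_zero]
    | add a b _ _ ha hb => rw [map_add, ha, hb, add_zero]
    | smul c a _ ha => rw [map_smul, ha, smul_zero]
  obtain ⟨T₁, h₁⟩ := key B
  obtain ⟨T₂, h₂⟩ := key (A ⧸ I)
  let N := Submodule.span A ((T₁ ∪ T₂ : Finset M) : Set M)
  haveI := h₁ N fun m hm => Submodule.subset_span (Finset.mem_union_left _ hm)
  haveI := h₂ N fun m hm => Submodule.subset_span (Finset.mem_union_right _ hm)
  haveI := subsingleton (M := M ⧸ N) h
  exact ⟨⟨T₁ ∪ T₂, (Submodule.Quotient.subsingleton_iff).1 ‹_›⟩⟩

theorem finitePresentation (h : IsPinching B I) [Module.Flat B (B ⊗[A] M)]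
    [Module.Flat (A ⧸ I) ((A ⧸ I) ⊗[A] M)] [Module.FinitePresentation B (B ⊗[A] M)]
    [Module.FinitePresentation (A ⧸ I) ((A ⧸ I) ⊗[A] M)] : Module.FinitePresentation A M := by
  haveI := flat (M := M) h
  haveI := finite (M := M) h
  obtain ⟨n, π, hπ⟩ := Module.Finite.exists_fin' A M
  let R := LinearMap.ker π
  have key : ∀ (S : Type u) [CommRing S] [Algebra A S] [Module.FinitePresentation S (S ⊗[A] M)],
      Module.Finite S (S ⊗[A] R) := by
    intro S _ _ _
    let Φ := AlgebraTensorModule.lTensor S S π
    have hΦ : Function.Surjective Φ := LinearMap.lTensor_surjective S hπ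
    let ι := AlgebraTensorModule.lTensor S S R.subtype
    have hinj : Function.Injective ι :=
      LinearMap.lTensor_injective_of_exact_of_flat π hπ R.subtype R.injective_subtype
        (LinearMap.exact_subtype_ker_map π) S
    have hrange : LinearMap.range ι = LinearMap.ker Φ := by
      ext z
      exact ((lTensor_exact S (LinearMap.exact_subtype_ker_map π) hπ) z).symm
    haveI : Module.Finite S (LinearMap.range ι) := by
      rw [hrange]; exact Module.Finite.iff_fg.mpr (Module.FinitePresentation.fg_ker Φ hΦ)
    exact Module.Finite.equiv (LinearEquiv.ofInjective ι hinj).symm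
  haveI := key B
  haveI := key (A ⧸ I)
  haveI := finite (M := R) h
  exact Module.finitePresentation_of_surjective π hπ (Module.Finite.iff_fg.mp ‹_›)

end Zero

end GrothLib.Ferrand
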