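import Mathlib

/-! # The pinch point and its normalization -/

universe u

namespace GrothLib.Pinch4

open Polynomial

theorem chart_ker_range (B : Type u) [CommRing B] (b : B) :
    letI Ψ : MvPolynomial (Fin 2) B →ₐ[B] Polynomial (AdjoinRoot (Polynomial.X ^ 2 - Polynomial.C b)) :=
      MvPolynomial.aeval
        ![Polynomial.C (AdjoinRoot.root (Polynomial.X ^ 2 - Polynomial.C b)) * Polynomial.X, Polynomial.X]
    RingHom.ker Ψ.toRingHom =
        Ideal.span {MvPolynomial.X 0 ^ 2 - MvPolynomial.C b * MvPolynomial.X 1 ^ 2} ∧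
      ∀ G : Polynomial (AdjoinRoot (Polynomial.X ^ 2 - Polynomial.C b)),
        (∃ c : B, G.coeff 0 = algebraMap B (AdjoinRoot (Polynomial.X ^ 2 - Polynomial.C b)) c) →
          G ∈ Ψ.range := by
  set q : B[X] := X ^ 2 - C b with hq
  have hmon : q.Monic := monic_X_pow_sub_C b two_ne_zero
  set z := AdjoinRoot.root q with hz
  have hz2 : z ^ 2 = algebraMap B (AdjoinRoot q) b := by
    have h := AdjoinRoot.eval₂_root q
    simp only [hq, eval₂_sub, eval₂_X_pow, eval₂_C] at h
    rwa [sub_eq_zero] at h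
  set Ψ : MvPolynomial (Fin 2) B →ₐ[B] (AdjoinRoot q)[X] := MvPolynomial.aeval ![C z * X, X] with hΨ
  have hu : Ψ (MvPolynomial.X 0) = C z * X := by simp [hΨ]
  have hv : Ψ (MvPolynomial.X 1) = X := by simp [hΨ]
  have hC : ∀ c : B, Ψ (MvPolynomial.C c) = C (algebraMap B (AdjoinRoot q) c) := fun c => by simp [hΨ]
  have rep : ∀ w : AdjoinRoot q, ∃ a c : B, w = algebraMap B _ a + algebraMap B _ c * z := fun w => by
    obtain ⟨p, rfl⟩ := AdjoinRoot.mk_surjective w
    refine ⟨(p %ₘ q).coeff 0, (p %ₘ q).coeff 1, ?_⟩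
    rcases subsingleton_or_nontrivial B with hB | hB
    · haveI : Subsingleton (AdjoinRoot q) := AdjoinRoot.mk_surjective.subsingleton
      exact Subsingleton.elim _ _
    have hd : (p %ₘ q).degree ≤ 1 := by
      have h := degree_modByMonic_lt p hmon
      rw [hq, degree_X_pow_sub_C two_pos] at h
      exact Order.le_of_lt_succ h
    conv_lhs => rw [← modByMonic_add_div p q]
    rw [map_add, map_mul, AdjoinRoot.mk_self, zero_mul, add_zero, eq_X_add_C_of_degree_le_one hd]
    simp [add_comm, hz]
  have zero : ∀ a c : B, algebraMap B (AdjoinRoot q) a + algebraMap B _ c * z = 0 → a = 0 ∧ c = 0 := fun a c h => by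
    nontriviality B
    have h' : AdjoinRoot.mk q (C c * X + C a) = 0 := by
      rw [← h]; simp [add_comm, hz]
    rw [AdjoinRoot.mk_eq_zero] at h'
    have h0 : C c * X + C a = 0 := by
      by_contra hne
      have h1 : (C c * X + C a).degree < q.degree := by
        rw [hq, degree_X_pow_sub_C two_pos]
        exact lt_of_le_of_lt degree_linear_le (by norm_num)
      exact hmon.not_dvd_of_degree_lt hne h1 h'
    exact ⟨by simpa using congrArg (fun p => p.coeff 0) h0, by simpa using congrArg (fun p => p.coeff 1) h0⟩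
  refine ⟨?_, ?_⟩
  · set I : Ideal (MvPolynomial (Fin 2) B) :=
      Ideal.span {MvPolynomial.X 0 ^ 2 - MvPolynomial.C b * MvPolynomial.X 1 ^ 2}
    let E : B[X] →ₐ[B] MvPolynomial (Fin 2) B := Polynomial.aeval (MvPolynomial.X 1)
    have hE : ∀ f : B[X], Ψ (E f) = f.map (algebraMap B _) := fun f => by
      have : Ψ.comp E = Polynomial.mapAlgHom (Algebra.ofId B (AdjoinRoot q)) := by
        ext
        simp [E, hv]
      exact DFunLike.congr_fun this f
    have key : ∀ F, ∃ f g : B[X], F - (E f + MvPolynomial.X 0 * E g) ∈ I := fun F => by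
      induction F using MvPolynomial.induction_on with
      | C a => exact ⟨C a, 0, by simp [E]⟩
      | add F F' h h' =>
        obtain ⟨f, g, h⟩ := h
        obtain ⟨f', g', h'⟩ := h'
        refine ⟨f + f', g + g', ?_⟩
        convert I.add_mem h h' using 1
        simp only [map_add]; ring
      | mul_X F i h =>
        obtain ⟨f, g, h⟩ := h
        fin_cases i
        · refine ⟨C b * X ^ 2 * g, f, ?_⟩
          convert I.add_mem (I.mul_mem_right (MvPolynomial.X 0) h)
            (I.mul_mem_left (E g) (Ideal.mem_span_singleton_self _)) using 1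
          simp [E]; ring
        · refine ⟨X * f, X * g, ?_⟩
          convert I.mul_mem_right (MvPolynomial.X 1) h using 1
          simp [E]; ring
    have hI : I ≤ RingHom.ker Ψ.toRingHom := by
      rw [Ideal.span_le, Set.singleton_subset_iff]
      show Ψ _ = 0
      rw [map_sub, map_mul, map_pow, map_pow, hu, hv, hC, mul_pow, ← map_pow, hz2, sub_self]
    refine le_antisymm (fun F hF => ?_) hI
    obtain ⟨f, g, h⟩ := key F
    have h1 : Ψ (E f + MvPolynomial.X 0 * E g) = 0 := by
      have h2 : Ψ (F - (E f + MvPolynomial.X 0 * E g)) = 0 := hI h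
      rwa [map_sub, show Ψ F = 0 from hF, zero_sub, neg_eq_zero] at h2
    rw [map_add, map_mul, hu, hE, hE] at h1
    have hf : f = 0 ∧ g = 0 := by
      have hc : ∀ n, f.coeff (n + 1) = 0 ∧ g.coeff n = 0 := fun n => by
        apply zero
        have h2 := congrArg (fun p => p.coeff (n + 1)) h1
        simp only [coeff_add, coeff_map, coeff_zero, mul_assoc, coeff_C_mul, coeff_X_mul] at h2
        rw [← h2]; ring
      have h0 : f.coeff 0 = 0 := by
        have h2 := congrArg (fun p => p.coeff 0) h1
        simp [mul_assoc] at h2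
        exact (zero _ 0 (by simpa using h2)).1
      refine ⟨Polynomial.ext fun n => ?_, Polynomial.ext fun n => by simpa using (hc n).2⟩
      cases n with
      | zero => simpa using h0
      | succ n => simpa using (hc n).1
    rw [hf.1, hf.2] at h
    simpa using h
  · rintro G ⟨c, hc⟩
    rw [G.as_sum_range]
    refine sum_mem fun n _ => ?_
    rw [← C_mul_X_pow_eq_monomial]
    cases n with
    | zero => exact ⟨MvPolynomial.C c, by show Ψ _ = _; rw [hC, hc, pow_zero, mul_one]⟩
    | succ n =>
      obtain ⟨a, d, had⟩ := rep (G.coeff (n + 1))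
      refine ⟨MvPolynomial.C a * MvPolynomial.X 1 ^ (n + 1) +
        MvPolynomial.C d * MvPolynomial.X 0 * MvPolynomial.X 1 ^ n, ?_⟩
      show Ψ _ = _
      simp only [map_add, map_mul, map_pow, hu, hv, hC, had]
      ring

section Plane

variable (K : Type u) [Field K]

local notation "S" => MvPolynomial (Fin 2) K
local notation "x" => (MvPolynomial.X 0 : MvPolynomial (Fin 2) K)
local notation "y" => (MvPolynomial.X 1 : MvPolynomial (Fin 2) K)

/-- The coordinate ring of the pinch point. -/
noncomputable abbrev pinch : Subalgebra K S := Algebra.adjoin K {x ^ 2, x * y, y}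

/-- Restriction to the line `y = 0`. -/
noncomputable def ev : S →ₐ[K] K[X] := MvPolynomial.aeval ![X, 0]

theorem exists_eq (f : S) : ∃ g : S, f = Polynomial.aeval x (ev K f) + y * g := by
  induction f using MvPolynomial.induction_on with
  | C a => exact ⟨0, by simp [ev]⟩
  | add F F' h h' =>
    obtain ⟨g, h⟩ := h
    obtain ⟨g', h'⟩ := h'
    refine ⟨g + g', ?_⟩
    conv_lhs => rw [h, h']
    simp only [map_add]; ring
  | mul_X F i h =>
    obtain ⟨g, h⟩ := h
    fin_cases i
    · refine ⟨g * x, ?_⟩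
      conv_lhs => rw [h]
      simp [ev]; ring
    · exact ⟨F, by simp [ev]; ring⟩

theorem ev_mem {f : S} (hf : f ∈ pinch K) : ∃ p : K[X], ev K f = Polynomial.aeval (X ^ 2) p := by
  induction hf using Algebra.adjoin_induction with
  | mem z hz =>
    rcases hz with rfl | rfl | rfl
    · exact ⟨X, by simp [ev]⟩
    · exact ⟨0, by simp [ev]⟩
    · exact ⟨0, by simp [ev]⟩
  | algebraMap r => exact ⟨C r, by simp [ev]⟩
  | add a b _ _ ha hb =>
    obtain ⟨p, hp⟩ := ha; obtain ⟨q, hq⟩ := hb
    exact ⟨p + q, by rw [map_add, map_add, hp, hq]⟩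
  | mul a b _ _ ha hb =>
    obtain ⟨p, hp⟩ := ha; obtain ⟨q, hq⟩ := hb
    exact ⟨p * q, by rw [map_mul, map_mul, hp, hq]⟩

theorem y_mul_mem (g : S) : y * g ∈ pinch K := by
  have hy : y ∈ pinch K := Algebra.subset_adjoin (by simp)
  have hx2 : x ^ 2 ∈ pinch K := Algebra.subset_adjoin (by simp)
  have hxy : x * y ∈ pinch K := Algebra.subset_adjoin (by simp)
  have key : ∀ n m : ℕ, y * (x ^ n * y ^ m) ∈ pinch K := fun n m => by
    rcases Nat.even_or_odd' n with ⟨k, rfl | rfl⟩
    · convert mul_mem (pow_mem hx2 k) (pow_mem hy (m + 1)) using 1; ring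
    · convert mul_mem (mul_mem (pow_mem hx2 k) (pow_mem hy m)) hxy using 1; ring
  induction g using MvPolynomial.induction_on' with
  | monomial d a =>
    rw [MvPolynomial.monomial_eq, Finsupp.prod_fintype _ _ (fun i => pow_zero _), Fin.prod_univ_two, mul_left_comm]
    exact mul_mem (Subalgebra.algebraMap_mem _ a) (key _ _)
  | add p q hp hq => rw [mul_add]; exact add_mem hp hq

theorem mem_of_ev {f : S} (p : K[X]) (h : ev K f = Polynomial.aeval (X ^ 2) p) : f ∈ pinch K := by
  obtain ⟨g, hg⟩ := exists_eq K f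
  rw [hg, h, ← Polynomial.aeval_algHom_apply, map_pow, Polynomial.aeval_X]
  refine add_mem ?_ (y_mul_mem K g)
  exact Algebra.adjoin_mono (by simp) (Polynomial.aeval_mem_adjoin_singleton K (x ^ 2) (p := p))

theorem parity {q : K[X]} (h₁ : ∃ p : K[X], q = Polynomial.aeval (X ^ 2) p)
    (h₂ : ∃ p : K[X], X * q = Polynomial.aeval (X ^ 2) p) : q = 0 := by
  obtain ⟨p, rfl⟩ := h₁
  obtain ⟨r, hr⟩ := h₂
  have e : ∀ p : K[X], Polynomial.aeval (X ^ 2) p = expand K 2 p := fun p => by
    rw [expand_eq_comp_X_pow, comp, Polynomial.aeval_def]; rfl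
  rw [e, e] at hr
  rw [e]
  ext n
  have h := congrArg (fun p => p.coeff (n + 1)) hr
  simp only [coeff_X_mul, coeff_expand two_pos] at h
  rw [coeff_expand two_pos, coeff_zero]
  split_ifs with hn
  · rw [if_pos hn, if_neg (by omega)] at h; exact h
  · rfl

variable [NeZero (2 : K)]

theorem derivation_maps_pinch_iff (D : Derivation K S S) :
    (∀ r ∈ pinch K, D r ∈ pinch K) ↔
      (D y ∈ Ideal.span {y} ∧
        ∃ (s : S) (p : K[X]), D x = y * s + x * Polynomial.aeval (x ^ 2) p) := by
  have hy : y ∈ pinch K := Algebra.subset_adjoin (by simp)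
  have hx2 : x ^ 2 ∈ pinch K := Algebra.subset_adjoin (by simp)
  have hxy : x * y ∈ pinch K := Algebra.subset_adjoin (by simp)
  constructor
  · intro h
    have h1 := ev_mem K (h _ hy)
    have h2 : ∃ p : K[X], X * ev K (D y) = Polynomial.aeval (X ^ 2) p := by
      obtain ⟨p, hp⟩ := ev_mem K (h _ hxy)
      exact ⟨p, by rw [← hp]; simp [Derivation.leibniz, ev]⟩
    have h0 := parity K h1 h2
    obtain ⟨g, hg⟩ := exists_eq K (D y)
    rw [h0, map_zero, zero_add] at hg
    refine ⟨Ideal.mem_span_singleton'.2 ⟨g, by rw [hg, mul_comm]⟩, ?_⟩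
    obtain ⟨q, hq⟩ := ev_mem K (h _ hx2)
    have hq' : X * ev K (D x) = Polynomial.aeval (X ^ 2) (C (2 : K)⁻¹ * q) := by
      rw [map_mul, ← hq, Polynomial.aeval_C, pow_two, Derivation.leibniz, smul_eq_mul, map_add, map_mul, ← two_mul,
        Polynomial.algebraMap_eq, show (2 : K[X]) = C 2 from (map_ofNat C 2).symm, ← mul_assoc, ← map_mul,
        inv_mul_cancel₀ (NeZero.ne (2 : K)), map_one, one_mul]
      simp [ev]
    set r := C (2 : K)⁻¹ * q
    have hr0 : r.coeff 0 = 0 := by
      have := congrArg (fun p => p.eval 0) hq'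
      rw [show Polynomial.aeval (X ^ 2 : K[X]) r = r.comp (X ^ 2) from (comp_eq_aeval).symm, eval_comp] at this
      simpa [coeff_zero_eq_eval_zero] using this.symm
    obtain ⟨s, hs⟩ := exists_eq K (D x)
    refine ⟨s, r.divX, ?_⟩
    have hr : ev K (D x) = X * Polynomial.aeval (X ^ 2) r.divX := by
      have hsplit : r = X * r.divX := by
        conv_lhs => rw [← X_mul_divX_add r, hr0, map_zero, add_zero]
      rw [hsplit, map_mul, Polynomial.aeval_X] at hq'
      exact mul_left_cancel₀ X_ne_zero (hq'.trans (by ring))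
    conv_lhs => rw [hs, hr, map_mul, Polynomial.aeval_X, ← Polynomial.aeval_algHom_apply, map_pow, Polynomial.aeval_X]
    ring
  · rintro ⟨hDy, s, p, hDx⟩ r hr
    obtain ⟨g, hg⟩ := Ideal.mem_span_singleton'.1 hDy
    induction hr using Algebra.adjoin_induction with
    | mem z hz =>
      rcases hz with rfl | rfl | rfl
      · refine mem_of_ev K (2 * X * p) ?_
        rw [pow_two, Derivation.leibniz, hDx]
        simp [ev, ← Polynomial.aeval_algHom_apply, map_ofNat]; ring
      · refine mem_of_ev K 0 ?_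
        rw [Derivation.leibniz, ← hg]
        simp [ev]
      · rw [← hg, mul_comm]; exact y_mul_mem K g
    | algebraMap r => rw [Derivation.map_algebraMap]; exact zero_mem _
    | add a b _ _ ha hb => rw [map_add]; exact add_mem ha hb
    | mul a b ha hb iha ihb =>
      rw [Derivation.leibniz]
      exact add_mem (mul_mem ha ihb) (mul_mem hb iha)

theorem existsUnique_extension (δ : Derivation K (pinch K) S) :
    ∃! D : Derivation K S S, ∀ r : pinch K, D (r : S) = δ r := by
  have hy : y ∈ pinch K := Algebra.subset_adjoin (by simp)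
  have hx2 : x ^ 2 ∈ pinch K := Algebra.subset_adjoin (by simp)
  have hxy : x * y ∈ pinch K := Algebra.subset_adjoin (by simp)
  let Y' : pinch K := ⟨y, hy⟩
  let X2 : pinch K := ⟨x ^ 2, hx2⟩
  let XY : pinch K := ⟨x * y, hxy⟩
  have two : (2 : S) ≠ 0 := by
    rw [show (2 : S) = MvPolynomial.C 2 from (map_ofNat MvPolynomial.C 2).symm, Ne, MvPolynomial.C_eq_zero]
    exact NeZero.ne _
  have rel : XY * XY = X2 * (Y' * Y') := Subtype.ext (by show x * y * (x * y) = x ^ 2 * (y * y); ring)
  have h1 : (2 * x * δ XY : S) = y * δ X2 + 2 * x ^ 2 * δ Y' := by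
    have h := congrArg δ rel
    simp only [Derivation.leibniz, Algebra.smul_def, Subalgebra.algebraMap_def, MulMemClass.coe_mul] at h
    change x * y * δ XY + x * y * δ XY = x ^ 2 * (y * δ Y' + y * δ Y') + y * y * δ X2 at h
    refine mul_left_cancel₀ (MvPolynomial.X_ne_zero (R := K) (1 : Fin 2)) ?_
    linear_combination h
  obtain ⟨e, he⟩ : x ∣ δ X2 := by
    have hdvd : x ∣ y * δ X2 := ⟨2 * δ XY - 2 * x * δ Y', by linear_combination -h1⟩
    have hp : Prime x := MvPolynomial.X_prime
    refine (hp.dvd_or_dvd hdvd).resolve_left ?_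
    rintro ⟨c, hc⟩
    have := congrArg (MvPolynomial.eval (![0, 1] : Fin 2 → K)) hc
    simp at this
  let d : S := MvPolynomial.C (2 : K)⁻¹ * e
  have hd : δ X2 = 2 * x * d := by
    rw [he, show (2 : S) = MvPolynomial.C 2 from (map_ofNat MvPolynomial.C 2).symm]
    calc x * e = x * (MvPolynomial.C ((2 : K) * (2 : K)⁻¹) * e) := by
          rw [mul_inv_cancel₀ (NeZero.ne (2 : K)), map_one, one_mul]
      _ = _ := by rw [map_mul]; ring
  have hxy' : δ XY = y * d + x * δ Y' := by
    refine mul_left_cancel₀ (mul_ne_zero two (MvPolynomial.X_ne_zero (R := K) (0 : Fin 2))) ?_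
    rw [h1, hd]; ring
  refine ⟨MvPolynomial.mkDerivation K ![d, δ Y'], fun r => ?_, fun D hD => ?_⟩
  · obtain ⟨r, hr⟩ := r
    show MvPolynomial.mkDerivation K ![d, δ Y'] r = _
    induction hr using Algebra.adjoin_induction with
    | mem z hz =>
      rcases hz with rfl | rfl | rfl
      · rw [show (⟨x ^ 2, _⟩ : pinch K) = X2 from rfl, hd, pow_two, Derivation.leibniz]
        simp; ring
      · rw [show (⟨x * y, _⟩ : pinch K) = XY from rfl, hxy', Derivation.leibniz]
        simp; ring
      · simp [Y']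
    | algebraMap r =>
      rw [Derivation.map_algebraMap]
      exact (δ.map_algebraMap r).symm
    | add a b ha hb iha ihb =>
      rw [map_add, iha, ihb, ← map_add]; rfl
    | mul a b ha hb iha ihb =>
      rw [Derivation.leibniz, iha, ihb, show (⟨a * b, _⟩ : pinch K) = ⟨a, ha⟩ * ⟨b, hb⟩ from rfl, Derivation.leibniz]
      rfl
  · refine MvPolynomial.derivation_ext fun i => ?_
    fin_cases i
    · simp only [MvPolynomial.mkDerivation_X, Fin.zero_eta, Matrix.cons_val_zero]
      refine mul_left_cancel₀ (mul_ne_zero two (MvPolynomial.X_ne_zero (R := K) (0 : Fin 2))) ?_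
      rw [← hd, ← hD X2]
      show _ = D (x ^ 2)
      rw [pow_two, Derivation.leibniz, smul_eq_mul]; ring
    · simp only [MvPolynomial.mkDerivation_X, Fin.mk_one, Matrix.cons_val_one, Matrix.cons_val_fin_one]
      exact hD Y'

end Plane

end GrothLib.Pinch4
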